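import Groth.Prelude.Def_StCurv2
import Groth.Agent.Lib.H12.FlatComp
import Groth.Agent.Lib.FibDim4.Basic
import Groth.Agent.Lib.SmoothPt12.Basic
import Mathlib.AlgebraicGeometry.Morphisms.Finite
import Mathlib.AlgebraicGeometry.AlgClosed.Basic

/-!
# Geometric fibres of a family over the spectrum of a field
-/

universe u

set_option backward.isDefEq.respectTransparency.types false

open CategoryTheory CategoryTheory.Limits AlgebraicGeometry

namespace Groth.Agent.CurveLocus

variable {S : Scheme.{u}} {k : Type u} [Field k] {X : Scheme.{u}}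

/-- The geometric fibres of the family given by `p` are its base changes to algebraically closed fields. -/
theorem geomFib_iff (t : Spec (CommRingCat.of k) ⟶ S) (p : X ⟶ Spec (CommRingCat.of k)) [IsProper p]
    (P : ∀ (Ω : Type u) [Field Ω] [IsAlgClosed Ω] (X' : Scheme.{u}), (X' ⟶ Spec (CommRingCat.of Ω)) → Prop) :
    CurvSt.GeomFib (fun Ω _ _ X' q _ => P Ω X' q)
        ((CurvSt.toSpFam S 0).obj ⟨Over.mk t, X, p, Fin.elim0, fun i => i.elim0⟩) ↔
      ∀ (Ω : Type u) [Field Ω] [IsAlgClosed Ω] (σ : Spec (CommRingCat.of Ω) ⟶ Spec (CommRingCat.of k))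
        (X' : Scheme.{u}) (q : X' ⟶ Spec (CommRingCat.of Ω)) (pr : X' ⟶ X),
        IsPullback pr q p σ → P Ω X' q := by
  constructor
  · intro H Ω _ _ σ X' q pr hsq
    let i : (Over.mk ((q ≫ σ) ≫ t) : Over S) ⟶ Over.mk (p ≫ t) := Over.homMk pr (by
      show pr ≫ p ≫ t = (q ≫ σ) ≫ t
      rw [← Category.assoc, hsq.w])
    let fib : (Over.mk ((q ≫ σ) ≫ t) : Over S) ⟶ Over.mk (σ ≫ t) :=
      Over.homMk q (show q ≫ σ ≫ t = (q ≫ σ) ≫ t by rw [Category.assoc])
    have hO : IsPullback i fib (Over.homMk p rfl : Over.mk (p ≫ t) ⟶ Over.mk t)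
        (Over.homMk σ rfl : Over.mk (σ ≫ t) ⟶ Over.mk t) :=
      IsPullback.of_map (Over.forget S) (by ext; exact hsq.w) hsq
    exact H Ω σ X' q ((AlgSp.yon S).map i) (hO.map (AlgSp.yon S))
  · intro H Ω _ _ σ X' q i hP
    obtain ⟨i, rfl⟩ := (AlgSp.yon S).map_surjective i
    have h1 := IsPullback.of_map (AlgSp.yon S)
      ((AlgSp.yon S).map_injective (by rw [Functor.map_comp, Functor.map_comp]; exact hP.w)) hP
    exact H Ω σ X' q i.left (h1.map (Over.forget S))

/-- A pullback to an algebraic closure dominates a pullback to a field. -/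
theorem exists_algClosed_over {F Z : Scheme.{u}} {g : F ⟶ Spec (CommRingCat.of k)} {K : Type u} [Field K]
    {σ : Spec (CommRingCat.of K) ⟶ Spec (CommRingCat.of k)} {fst : Z ⟶ F} {snd : Z ⟶ Spec (CommRingCat.of K)}
    (hsq : IsPullback fst snd g σ) :
    ∃ (σ' : Spec (CommRingCat.of (AlgebraicClosure K)) ⟶ Spec (CommRingCat.of k)) (X' : Scheme.{u}) (π : X' ⟶ Z)
      (q : X' ⟶ Spec (CommRingCat.of (AlgebraicClosure K))),
      IsPullback (π ≫ fst) q g σ' ∧ Flat π ∧ Surjective π := by
  let τ : Spec (CommRingCat.of (AlgebraicClosure K)) ⟶ Spec (CommRingCat.of K) :=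
    Spec.map (CommRingCat.ofHom (algebraMap K (AlgebraicClosure K)))
  have h := IsPullback.of_hasPullback snd τ
  haveI : Flat τ := (HasRingHomProperty.Spec_iff (P := @Flat)).2
    (RingHom.flat_algebraMap_iff.2 inferInstance)
  haveI : Surjective τ := ⟨Function.surjective_to_subsingleton _⟩
  exact ⟨τ ≫ σ, pullback snd τ, pullback.fst snd τ, pullback.snd snd τ, h.paste_horiz hsq,
    inferInstance, inferInstance⟩

theorem geometricallyReduced_iff (p : X ⟶ Spec (CommRingCat.of k)) :
    GeometricallyReduced p ↔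
      ∀ (Ω : Type u) [Field Ω] [IsAlgClosed Ω] (σ : Spec (CommRingCat.of Ω) ⟶ Spec (CommRingCat.of k))
        (X' : Scheme.{u}) (q : X' ⟶ Spec (CommRingCat.of Ω)) (pr : X' ⟶ X),
        IsPullback pr q p σ → IsReduced X' := by
  refine ⟨fun h Ω _ _ σ X' q pr hsq => h.geometrically_isReduced σ pr q hsq, fun H => ⟨?_⟩⟩
  intro K _ σ Z fst snd hsq
  obtain ⟨σ', X', π, q, h', _, _⟩ := exists_algClosed_over hsq
  haveI := H _ σ' X' q _ h'
  exact H12.isReduced_of_flat_surjective π

theorem geometricallyConnected_iff (p : X ⟶ Spec (CommRingCat.of k)) :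
    GeometricallyConnected p ↔
      ∀ (Ω : Type u) [Field Ω] [IsAlgClosed Ω] (σ : Spec (CommRingCat.of Ω) ⟶ Spec (CommRingCat.of k))
        (X' : Scheme.{u}) (q : X' ⟶ Spec (CommRingCat.of Ω)) (pr : X' ⟶ X),
        IsPullback pr q p σ → ConnectedSpace ↥X' := by
  refine ⟨fun h Ω _ _ σ X' q pr hsq => h.geometrically_connectedSpace σ pr q hsq, fun H => ⟨?_⟩⟩
  intro K _ σ Z fst snd hsq
  obtain ⟨σ', X', π, q, h', _, _⟩ := exists_algClosed_over hsq
  haveI := H _ σ' X' q _ h'
  exact π.surjective.connectedSpace π.continuous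

theorem topologicalKrullDim_bc {Ω : Type u} [Field Ω] (p : X ⟶ Spec (CommRingCat.of k)) [LocallyOfFiniteType p]
    {σ : Spec (CommRingCat.of Ω) ⟶ Spec (CommRingCat.of k)} {X' : Scheme.{u}} {q : X' ⟶ Spec (CommRingCat.of Ω)}
    {pr : X' ⟶ X} (hsq : IsPullback pr q p σ) : topologicalKrullDim X' = topologicalKrullDim X := by
  obtain ⟨φ, rfl⟩ := Spec.map_surjective σ
  exact FibDim4.topologicalKrullDim_eq_of_isPullback φ (Field.toIsField k) (Field.toIsField Ω) p pr q hsq

/-- Fibres of an extension of the base field over closed points are finite. -/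
theorem finite_preimage_closed {Ω : Type u} [Field Ω] (p : X ⟶ Spec (CommRingCat.of k)) [LocallyOfFiniteType p]
    {σ : Spec (CommRingCat.of Ω) ⟶ Spec (CommRingCat.of k)} {X' : Scheme.{u}} {q : X' ⟶ Spec (CommRingCat.of Ω)}
    {pr : X' ⟶ X} (hsq : IsPullback pr q p σ) {x : X} (hx : IsClosed ({x} : Set X)) : (pr ⁻¹' {x}).Finite := by
  haveI : IsFinite (X.fromSpecResidueField x ≫ p) := by
    rw [isClosed_singleton_iff_isClosedImmersion] at hx
    rw [isFinite_iff_locallyOfFiniteType_of_jacobsonSpace]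
    infer_instance
  have h : IsPullback (pr.fiberToSpecResidueField x) (pr.fiberι x ≫ q) (X.fromSpecResidueField x ≫ p) σ :=
    (IsPullback.of_hasPullback pr (X.fromSpecResidueField x)).flip.paste_vert hsq
  haveI : IsFinite (pr.fiberι x ≫ q) := MorphismProperty.of_isPullback h inferInstance
  haveI : Finite ↥(pr.fiber x) := by
    have := (pr.fiberι x ≫ q).finite_preimage_singleton (default : Spec (CommRingCat.of Ω))
    rw [show ((pr.fiberι x ≫ q) : _ → _) ⁻¹' {default} = Set.univ from Set.eq_univ_of_forall fun z => Subsingleton.elim _ _] at this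
    exact Set.finite_univ_iff.1 this
  rw [← pr.range_fiberι x]
  exact Set.finite_range _

/-- In a scheme of finite type over a field a finite closed set consists of closed points. -/
theorem isClosed_singleton_of_mem_finite {p : X ⟶ Spec (CommRingCat.of k)} [LocallyOfFiniteType p] {N : Set X}
    (hN : IsClosed N) (hf : N.Finite) {x : X} (hx : x ∈ N) : IsClosed ({x} : Set X) := by
  haveI : JacobsonSpace X := LocallyOfFiniteType.jacobsonSpace p
  have h := JacobsonSpace.closure_inter_closedPoints hN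
  have hc : IsClosed (N ∩ closedPoints X) := by
    rw [← Set.biUnion_of_singleton (N ∩ closedPoints X)]
    exact (hf.inter_of_left _).isClosed_biUnion fun y hy => hy.2
  rw [hc.closure_eq] at h
  exact (h.ge hx).2

/-- The smooth locus commutes with extension of the base field. -/
theorem nonsmooth_bc {Ω : Type u} [Field Ω] (p : X ⟶ Spec (CommRingCat.of k)) [LocallyOfFinitePresentation p]
    {σ : Spec (CommRingCat.of Ω) ⟶ Spec (CommRingCat.of k)} [Flat σ] {X' : Scheme.{u}}
    {q : X' ⟶ Spec (CommRingCat.of Ω)} {pr : X' ⟶ X} (hsq : IsPullback pr q p σ) :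
    {x : ↥X' | ¬ ∃ U : X'.Opens, x ∈ U ∧ Smooth (U.ι ≫ q)} =
      pr ⁻¹' {x : ↥X | ¬ ∃ U : X.Opens, x ∈ U ∧ Smooth (U.ι ≫ p)} := by
  ext z
  exact not_congr (SmoothPt12.smoothPt_baseChange_iff hsq z (Or.inr (Flat.stalkMap σ _)))

theorem isClosed_nonsmooth (p : X ⟶ Spec (CommRingCat.of k)) [LocallyOfFinitePresentation p] :
    IsClosed {x : ↥X | ¬ ∃ U : X.Opens, x ∈ U ∧ Smooth (U.ι ≫ p)} := by
  rw [show {x : ↥X | ¬ ∃ U : X.Opens, x ∈ U ∧ Smooth (U.ι ≫ p)} = (p.smoothLocus : Set X)ᶜ from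
    Set.ext fun x => not_congr (SmoothPt12.smoothPt_iff_mem p x)]
  exact p.smoothLocus.2.isClosed_compl

end Groth.Agent.CurveLocus
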