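import Groth.Agent.Lib.AlgSpDecent.GorensteinSpace
import Groth.Agent.Lib.AlgSpDecent.GorensteinAt
import Groth.Agent.Lib.CMBase.Basic
import Groth.Agent.Lib.Hens.Transfer
import Groth.Agent.Lib.Residual14.OnePoint

/-!
# Etale charts of a scheme over a field
-/

universe u

set_option backward.isDefEq.respectTransparency.types false

open CategoryTheory CategoryTheory.Limits AlgebraicGeometry AlgSp IsLocalRing
open Groth.Agent.Goren15

namespace Groth.Agent.CurveLocus

variable {S : Scheme.{u}} {k : Type u} [Field k] {X : Scheme.{u}}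

theorem isField_stalk_field (y : Spec (CommRingCat.of k)) :
    IsField ((Spec (CommRingCat.of k)).presheaf.stalk y) := by
  haveI : Ring.KrullDimLE 0 ((Spec (CommRingCat.of k)).presheaf.stalk y) :=
    Ring.krullDimLE_iff.2 (Residual14.isField_stalk_of_subsingleton_field y).le
  exact Ring.KrullDimLE.isField_of_isReduced (R := (Spec (CommRingCat.of k)).presheaf.stalk y)

/-- Over a field the closed fibre ring is the local ring. -/
theorem nonempty_fibQuot_field {T : Scheme.{u}} (g : T ⟶ Spec (CommRingCat.of k)) (z : T) :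
    Nonempty (FibQuot g z ≃+* T.presheaf.stalk z) := by
  refine ⟨(Ideal.quotEquivOfEq ?_).trans (RingEquiv.quotientBot _)⟩
  rw [IsLocalRing.isField_iff_maximalIdeal_eq.1 (isField_stalk_field (g z)), Ideal.map_bot]

theorem flat_stalkMap_field {T : Scheme.{u}} (g : T ⟶ Spec (CommRingCat.of k)) (z : T) :
    (g.stalkMap z).hom.Flat := by
  letI : Field ((Spec (CommRingCat.of k)).presheaf.stalk (g z)) := (isField_stalk_field (g z)).toField
  letI := (g.stalkMap z).hom.toAlgebra
  exact (inferInstance : Module.Flat ((Spec (CommRingCat.of k)).presheaf.stalk (g z)) (T.presheaf.stalk z))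

/-- Cohen–Macaulayness of local rings is etale local. -/
theorem cm_stalk_etale {A B : Scheme.{u}} [IsLocallyNoetherian B] (e : A ⟶ B) [Etale e] (a : A) :
    LocCoh.IsCohenMacaulayLocalRing (A.presheaf.stalk a) ↔
      LocCoh.IsCohenMacaulayLocalRing (B.presheaf.stalk (e a)) := by
  haveI : IsLocallyNoetherian A := LocallyOfFiniteType.isLocallyNoetherian e
  algebraize [(e.stalkMap a).hom]
  haveI : IsLocalHom (algebraMap (B.presheaf.stalk (e a)) (A.presheaf.stalk a)) :=
    inferInstanceAs (IsLocalHom (e.stalkMap a).hom)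
  haveI : Module.Flat (B.presheaf.stalk (e a)) (A.presheaf.stalk a) := Flat.stalkMap e a
  exact Hens.isCohenMacaulay_iff_of_map_maximalIdeal (B.presheaf.stalk (e a)) (A.presheaf.stalk a)
    (Groth.Agent.Weight.map_maximalIdeal_eq (e.stalkMap a).hom
      (FormallyUnramified.stalkMap e a) (LocallyOfFiniteType.stalkMap e a))

/-- A chart of `h_X → h_{Spec k}` is flat with fibre rings the local rings of `X` up to etale maps. -/
theorem chart_fibre {U V : Scheme.{u}} (p : X ⟶ Spec (CommRingCat.of k)) (a : U ⟶ X)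
    (b : V ⟶ Spec (CommRingCat.of k)) [Etale b] (h : U ⟶ V) (w : a ≫ p = h ≫ b) (u : U) :
    (h.stalkMap u).hom.Flat ∧ Nonempty ((h.fiber (h u)).presheaf.stalk (h.asFiber u) ≃+* U.presheaf.stalk u) := by
  refine ⟨AlgSpDecent.FlatAt.flat_stalkMap_of_comp_etale h b u (flat_stalkMap_field (h ≫ b) u), ?_⟩
  obtain ⟨e₁⟩ := nonempty_asFiberEquiv h u
  obtain ⟨e₂⟩ := AlgSpDecent.GorAt.nonempty_fibQuot_comp_etale h b u
  obtain ⟨e₃⟩ := nonempty_fibQuot_field (h ≫ b) u
  exact ⟨e₁.symm.trans (e₂.symm.trans e₃)⟩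

theorem fibre_field (p : X ⟶ Spec (CommRingCat.of k)) (x : X) :
    Nonempty ((p.fiber (p x)).presheaf.stalk (p.asFiber x) ≃+* X.presheaf.stalk x) := by
  obtain ⟨e₁⟩ := nonempty_asFiberEquiv p x
  obtain ⟨e₂⟩ := nonempty_fibQuot_field p x
  exact ⟨e₁.symm.trans e₂⟩

/-- Charts of a morphism of representable sheaves come from etale morphisms of schemes. -/
theorem chart_yon {T U V : Over S} {W : Over S} (g : T ⟶ W) {a : (yon S).obj U ⟶ (yon S).obj T}
    {b : (yon S).obj V ⟶ (yon S).obj W} {h : U ⟶ V} (ha : RepWith @Etale a) (hb : RepWith @Etale b)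
    (w : a ≫ (yon S).map g = (yon S).map h ≫ b) :
    ∃ (a' : U ⟶ T) (b' : V ⟶ W), Etale a'.left ∧ Etale b'.left ∧ a'.left ≫ g.left = h.left ≫ b'.left := by
  obtain ⟨a', rfl⟩ := (yon S).map_surjective a
  obtain ⟨b', rfl⟩ := (yon S).map_surjective b
  rw [← Functor.map_comp, ← Functor.map_comp] at w
  exact ⟨a', b', (repWith_yon_map_iff _ _).1 ha, (repWith_yon_map_iff _ _).1 hb,
    congrArg (fun m => m.left) ((yon S).map_injective w)⟩

end Groth.Agent.CurveLocus
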